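import Groth.Prelude.Def_DRing4
import Groth.Agent.Lib.KFlat.HomAdj
import Groth.Agent.Lib.DMod.Basic
import Groth.Agent.Lib.DMod.Homology
import Mathlib.LinearAlgebra.TensorProduct.RightExactness
import Mathlib.RingTheory.PicardGroup

/-!
The top homology of a tensor product of bounded above complexes, and complexes with invertible tensor product.
-/

set_option autoImplicit false
set_option linter.unusedSectionVars false
set_option backward.isDefEq.respectTransparency false

universe u

open CategoryTheory CategoryTheory.Limits MonoidalCategory TensorProduct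

namespace Groth.Agent.TopTensor9

open KFlat.HomAdj

variable {A : Type u} [CommRing A]

/-- The homology of a complex in a degree with zero successor is a cokernel. -/
theorem exists_topEquiv (K : DRing.Cx A) {m n : ℤ} (hm : m + 1 = n) (hK : IsZero (K.X (n + 1))) :
    Nonempty (K.homology n ≃ₗ[A] (K.X n ⧸ LinearMap.range (K.d m n).hom)) := by
  let Φ : K.cycles n →ₗ[A] (K.X n ⧸ LinearMap.range (K.d m n).hom) :=
    Submodule.mkQ _ ∘ₗ (K.iCycles n).hom
  have hd : ∀ x : K.X n, K.d n (n + 1) x = 0 := fun x =>
    (ModuleCat.subsingleton_of_isZero hK).elim _ _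
  have hΦ : Function.Surjective Φ := fun y => by
    obtain ⟨x, rfl⟩ := Submodule.mkQ_surjective _ y
    obtain ⟨z, hz⟩ := DMod.exists_cycle (K := K) (CochainComplex.next ℤ n) x (hd x)
    exact ⟨z, congrArg (Submodule.mkQ _) hz⟩
  have hπ : Function.Surjective (K.homologyπ n).hom := DMod.homologyπ_surjective K n
  have hker : LinearMap.ker (K.homologyπ n).hom = LinearMap.ker Φ := by
    ext z
    simp only [LinearMap.mem_ker]
    rw [show Φ z = Submodule.Quotient.mk (K.iCycles n z) from rfl, Submodule.Quotient.mk_eq_zero,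
      LinearMap.mem_range]
    exact DMod.homologyπ_eq_zero_iff (by simp; omega) z
  exact ⟨(LinearMap.quotKerEquivOfSurjective _ hπ).symm ≪≫ₗ Submodule.quotEquivOfEq _ _ hker ≪≫ₗ
    LinearMap.quotKerEquivOfSurjective _ hΦ⟩

variable (P R : DRing.Cx A) (b c : ℤ) [hP : P.IsStrictlyLE b] [hR : R.IsStrictlyLE c]

theorem eq_zero_of_gt_left {p : ℤ} (hp : b < p) (x : P.X p) : x = 0 :=
  (ModuleCat.subsingleton_of_isZero (P.isZero_of_isStrictlyLE b p hp)).elim _ _

/-- The top homology of a tensor product is the tensor product of the top homologies. -/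
theorem exists_topTensorEquiv :
    Nonempty ((P ⊗ R : DRing.Cx A).homology (b + c) ≃ₗ[A] (P.homology b ⊗[A] R.homology c)) := by
  let T : DRing.Cx A := P ⊗ R
  obtain ⟨eP⟩ := exists_topEquiv P (show b - 1 + 1 = b by omega) (P.isZero_of_isStrictlyLE b _ (by omega))
  obtain ⟨eR⟩ := exists_topEquiv R (show c - 1 + 1 = c by omega) (R.isZero_of_isStrictlyLE c _ (by omega))
  have hT : IsZero (T.X (b + c + 1)) := by
    rw [IsZero.iff_id_eq_zero]
    refine tn_ext fun p q h x y => ?_
    have : x = 0 ∨ y = 0 := by
      by_cases hp : b < p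
      · exact Or.inl (eq_zero_of_gt_left P b hp x)
      · exact Or.inr (eq_zero_of_gt_left R c (by omega) y)
    change tn p q (b + c + 1) h x y = (0 : T.X (b + c + 1) →ₗ[A] T.X (b + c + 1)) _
    rcases this with rfl | rfl
    · rw [tn_zero_left, map_zero]
    · rw [LinearMap.zero_apply, tn, TensorProduct.tmul_zero, map_zero]
  obtain ⟨eT⟩ := exists_topEquiv T (show b + c - 1 + 1 = b + c by omega) hT
  let I : P.X b ⊗[A] R.X c →ₗ[A] T.X (b + c) := (HomologicalComplex.ιTensorObj P R b c (b + c) rfl).hom
  have hI : ∀ (x : P.X b) (y : R.X c), I (x ⊗ₜ[A] y) = tn b c (b + c) rfl x y := fun _ _ => rfl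
  have hIsurj : Function.Surjective I := by
    rw [← LinearMap.range_eq_top]
    have hq : ModuleCat.ofHom (Submodule.mkQ (LinearMap.range I)) = (0 : T.X (b + c) ⟶ _) := by
      refine tn_ext fun p q h x y => ?_
      change Submodule.mkQ (LinearMap.range I) (tn p q (b + c) h x y) = 0
      by_cases hp : b < p
      · rw [eq_zero_of_gt_left P b hp x, tn_zero_left, map_zero]
      · by_cases hp' : p = b
        · subst hp'
          obtain rfl : q = c := by omega
          exact (Submodule.Quotient.mk_eq_zero _).2 ⟨_, hI x y⟩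
        · rw [eq_zero_of_gt_left R c (show c < q by omega) y]
          simp [tn]
    refine Submodule.eq_top_iff'.2 fun t => (Submodule.Quotient.mk_eq_zero _).1 ?_
    exact congrArg (fun φ => φ.hom t) hq
  let dP : P.X (b - 1) →ₗ[A] P.X b := (P.d (b - 1) b).hom
  let dR : R.X (c - 1) →ₗ[A] R.X c := (R.d (c - 1) c).hom
  let g : P.X b →ₗ[A] P.X b ⧸ LinearMap.range dP := Submodule.mkQ _
  let g' : R.X c →ₗ[A] R.X c ⧸ LinearMap.range dR := Submodule.mkQ _
  let G := TensorProduct.map g g'
  -- the candidate map out of the top degree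
  let φ : T.X (b + c) ⟶ ModuleCat.of A ((P.X b ⧸ LinearMap.range dP) ⊗[A] (R.X c ⧸ LinearMap.range dR)) :=
    HomologicalComplex.mapBifunctorDesc fun p q h =>
      if hp : p = b then
        eqToHom (by
          obtain rfl : q = c := by simp at h; omega
          subst hp
          rfl) ≫ (ModuleCat.ofHom G : ModuleCat.of A (P.X b ⊗[A] R.X c) ⟶ _)
      else 0
  have hφ : ∀ z, φ (I z) = G z := by
    intro z
    induction z with
    | zero => simp
    | tmul x y =>
      rw [hI]
      refine (desc_tn _ b c rfl x y).trans ?_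
      rw [dif_pos rfl]
      rfl
    | add z w hz hw => rw [map_add, map_add, map_add, hz, hw]
  have hrange : LinearMap.range (T.d (b + c - 1) (b + c)).hom =
      (LinearMap.ker G).map I := by
    apply le_antisymm
    · rintro _ ⟨t, rfl⟩
      have hcomp : T.d (b + c - 1) (b + c) ≫ ModuleCat.ofHom (Submodule.mkQ ((LinearMap.ker G).map I)) = 0 := by
        refine tn_ext fun p q h x y => ?_
        change Submodule.mkQ ((LinearMap.ker G).map I) (T.d (b + c - 1) (b + c) (tn p q _ h x y)) = 0
        by_cases hp : p + 1 = b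
        · obtain rfl : p = b - 1 := by omega
          obtain rfl : q = c := by omega
          rw [tn_d (b - 1) b q (q + 1) _ _ h (by omega) rfl (by omega), map_add, Units.smul_def, map_zsmul,
            show R.d q (q + 1) y = 0 from eq_zero_of_gt_left R q (by omega) _,
            show tn (b - 1) (q + 1) (b + q) (by omega) x (0 : R.X (q + 1)) = 0 by simp [tn],
            map_zero, smul_zero, add_zero]
          refine (Submodule.Quotient.mk_eq_zero _).2 ⟨dP x ⊗ₜ[A] y, ?_, ?_⟩
          · change G _ = 0
            simp only [G, g, TensorProduct.map_tmul, Submodule.mkQ_apply]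
            rw [(Submodule.Quotient.mk_eq_zero _).2 (LinearMap.mem_range_self dP x), TensorProduct.zero_tmul]
          · rfl
        · by_cases hp' : p = b
          · subst hp'
            obtain rfl : q = c - 1 := by omega
            rw [tn_d p (p + 1) (c - 1) c _ _ h rfl (by omega) (by omega), map_add, Units.smul_def, map_zsmul,
              show P.d p (p + 1) x = 0 from eq_zero_of_gt_left P p (by omega) _, tn_zero_left, map_zero,
              zero_add]
            refine smul_eq_zero_of_right _ ((Submodule.Quotient.mk_eq_zero _).2 ⟨x ⊗ₜ[A] dR y, ?_, ?_⟩)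
            · change G _ = 0
              simp only [G, g', TensorProduct.map_tmul, Submodule.mkQ_apply]
              rw [(Submodule.Quotient.mk_eq_zero _).2 (LinearMap.mem_range_self dR y), TensorProduct.tmul_zero]
            · rfl
          · rw [tn_d p (p + 1) q (q + 1) _ _ h rfl rfl (by omega), map_add, Units.smul_def, map_zsmul]
            by_cases hp'' : b < p
            · rw [eq_zero_of_gt_left P b hp'' x, map_zero, tn_zero_left, tn_zero_left, map_zero, smul_zero,
                add_zero]
            · rw [eq_zero_of_gt_left R c (show c < q by omega) y, map_zero]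
              simp [tn]
      exact (Submodule.Quotient.mk_eq_zero _).1 (congrArg (fun ψ => ψ.hom t) hcomp)
    · rw [show LinearMap.ker G = _ from TensorProduct.map_ker (LinearMap.exact_map_mkQ_range dP)
          (Submodule.mkQ_surjective _) (LinearMap.exact_map_mkQ_range dR) (Submodule.mkQ_surjective _),
        Submodule.map_sup, sup_le_iff]
      constructor
      · rw [← LinearMap.range_comp]
        rintro _ ⟨z, rfl⟩
        induction z with
        | zero => rw [map_zero]; exact zero_mem _
        | tmul x y =>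
          refine ⟨(b.negOnePow : ℤ) • tn b (c - 1) (b + c - 1) (by omega) x y, ?_⟩
          rw [map_zsmul, tn_d b (b + 1) (c - 1) c _ _ _ rfl (by omega) (by omega),
            eq_zero_of_gt_left P b (show b < b + 1 by omega) (P.d b (b + 1) x), tn_zero_left, zero_add,
            Units.smul_def, smul_smul, ← Units.val_mul, Int.units_mul_self]
          simp only [Units.val_one, one_smul]
          rfl
        | add z w hz hw => rw [map_add]; exact add_mem hz hw
      · rw [← LinearMap.range_comp]
        rintro _ ⟨z, rfl⟩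
        induction z with
        | zero => rw [map_zero]; exact zero_mem _
        | tmul x y =>
          refine ⟨tn (b - 1) c (b + c - 1) (by omega) x y, ?_⟩
          rw [tn_d (b - 1) b c (c + 1) _ _ _ (by omega) rfl (by omega),
            eq_zero_of_gt_left R c (show c < c + 1 by omega) (R.d c (c + 1) y)]
          simp [tn]
          rfl
        | add z w hz hw => rw [map_add]; exact add_mem hz hw
  have hGsurj : Function.Surjective G :=
    TensorProduct.map_surjective (Submodule.mkQ_surjective _) (Submodule.mkQ_surjective _)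
  have hφsurj : Function.Surjective φ.hom := fun w => by
    obtain ⟨z, rfl⟩ := hGsurj w
    exact ⟨I z, hφ z⟩
  have hker : LinearMap.ker φ.hom = LinearMap.range (T.d (b + c - 1) (b + c)).hom := by
    rw [hrange]
    ext t
    constructor
    · intro ht
      obtain ⟨z, rfl⟩ := hIsurj t
      exact ⟨z, (hφ z).symm.trans ht, rfl⟩
    · rintro ⟨z, hz, rfl⟩
      exact (hφ z).trans hz
  exact ⟨eT ≪≫ₗ (Submodule.quotEquivOfEq _ _ hker).symm ≪≫ₗ LinearMap.quotKerEquivOfSurjective _ hφsurj ≪≫ₗ
    TensorProduct.congr eP.symm eR.symm⟩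

/-- If the tensor product is exact off degree `0` and the top homology of `P` is free of rank one,
then `R` is exact off degree `-b`. -/
theorem subsingleton_homology_of_retract (P R : DRing.Cx A) (b : ℤ) [P.IsStrictlyLE b]
    (e : P.homology b ≃ₗ[A] A) (hT : ∀ n, n ≠ 0 → Subsingleton ((P ⊗ R : DRing.Cx A).homology n))
    (j : ℤ) (hj : b + j ≠ 0) : Subsingleton (R.homology j) := by
  let T : DRing.Cx A := P ⊗ R
  obtain ⟨eP⟩ := exists_topEquiv P (show b - 1 + 1 = b by omega) (P.isZero_of_isStrictlyLE b _ (by omega))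
  let π : P.X b →ₗ[A] A := (eP.symm ≪≫ₗ e).toLinearMap ∘ₗ Submodule.mkQ _
  obtain ⟨p₀, hp₀⟩ : ∃ p₀, π p₀ = 1 := by
    obtain ⟨p₀, hp₀⟩ := Submodule.mkQ_surjective _ ((eP.symm ≪≫ₗ e).symm 1)
    exact ⟨p₀, (congrArg (eP.symm ≪≫ₗ e) hp₀).trans (LinearEquiv.apply_symm_apply _ _)⟩
  have hπd : ∀ x : P.X (b - 1), π (P.d (b - 1) b x) = 0 := fun x => by
    simp only [π, LinearMap.comp_apply, Submodule.mkQ_apply]
    erw [(Submodule.Quotient.mk_eq_zero (LinearMap.range (P.d (b - 1) b).hom)).2 ⟨x, rfl⟩]
    exact map_zero _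
  let Pm : ∀ (n m : ℤ), b + m = n → (T.X n ⟶ R.X m) := fun n m hnm =>
    HomologicalComplex.mapBifunctorDesc fun p q h =>
      if hp : p = b then
        eqToHom (by
          obtain rfl : q = m := by simp at h; omega
          subst hp
          rfl) ≫ (ModuleCat.ofHom ((TensorProduct.lid A (R.X m)).toLinearMap ∘ₗ
            TensorProduct.map π LinearMap.id) : ModuleCat.of A (P.X b ⊗[A] R.X m) ⟶ R.X m)
      else 0
  have hPm : ∀ (n m : ℤ) (h : b + m = n) (x : P.X b) (y : R.X m), Pm n m h (tn b m n h x y) = π x • y := by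
    intro n m h x y
    refine (desc_tn _ b m h x y).trans ?_
    rw [dif_pos rfl]
    rfl
  have hPm0 : ∀ (n m : ℤ) (h : b + m = n) (p q : ℤ) (h' : p + q = n), p ≠ b → ∀ (x : P.X p) (y : R.X q),
      Pm n m h (tn p q n h' x y) = 0 := by
    intro n m h p q h' hp x y
    refine (desc_tn _ p q h' x y).trans ?_
    rw [dif_neg hp]
    rfl
  have hcomm : T.d (b + j - 1) (b + j) ≫ Pm (b + j) j rfl =
      b.negOnePow • (Pm (b + j - 1) (j - 1) (by omega) ≫ R.d (j - 1) j) := by
    refine tn_ext fun p q h x y => ?_
    change Pm (b + j) j rfl (T.d (b + j - 1) (b + j) (tn p q _ h x y)) =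
      (b.negOnePow : ℤ) • R.d (j - 1) j (Pm (b + j - 1) (j - 1) (by omega) (tn p q _ h x y))
    by_cases hp : p = b
    · subst hp
      obtain rfl : q = j - 1 := by omega
      rw [tn_d p (p + 1) (j - 1) j _ _ h rfl (by omega) (by omega),
        eq_zero_of_gt_left P p (show p < p + 1 by omega) (P.d p (p + 1) x), tn_zero_left, zero_add,
        Units.smul_def, map_zsmul, hPm, hPm, map_smul]
    · rw [hPm0 (b + j - 1) (j - 1) (by omega) p q h hp, map_zero, smul_zero]
      by_cases hp' : p + 1 = b
      · obtain rfl : p = b - 1 := by omega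
        obtain rfl : q = j := by omega
        rw [tn_d (b - 1) b q (q + 1) _ _ h (by omega) rfl (by omega), map_add, Units.smul_def, map_zsmul,
          hPm, hπd, zero_smul, hPm0 _ _ _ (b - 1) (q + 1) _ (by omega), smul_zero, add_zero]
        all_goals omega
      · rw [tn_d p (p + 1) q (q + 1) _ _ h rfl rfl (by omega), map_add, Units.smul_def, map_zsmul,
          hPm0 _ _ _ (p + 1) q _ hp', hPm0 _ _ _ p (q + 1) _ hp, smul_zero, add_zero]
        all_goals omega
  haveI : Subsingleton (T.homology (b + j)) := hT _ hj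
  rw [DMod.subsingleton_homology_iff R (i := j - 1) (k := j + 1) (by simp) (by simp)]
  intro x hx
  have ht : T.d (b + j) (b + j + 1) (tn b j (b + j) rfl p₀ x) = 0 := by
    rw [tn_d b (b + 1) j (j + 1) _ _ rfl rfl rfl (by omega),
      eq_zero_of_gt_left P b (show b < b + 1 by omega) (P.d b (b + 1) p₀), hx, tn_zero_left]
    simp [tn]
  obtain ⟨u, hu⟩ := (DMod.subsingleton_homology_iff T (i := b + j - 1) (j := b + j) (k := b + j + 1)
    (by simp) (by simp)).1 inferInstance _ ht
  refine ⟨(b.negOnePow : ℤ) • Pm (b + j - 1) (j - 1) (by omega) u, ?_⟩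
  have hc := congrArg (fun φ => φ.hom u) hcomm
  change Pm (b + j) j rfl (T.d (b + j - 1) (b + j) u) =
    (b.negOnePow : ℤ) • R.d (j - 1) j (Pm (b + j - 1) (j - 1) (by omega) u) at hc
  rw [map_zsmul, ← hc, hu, hPm, hp₀, one_smul]

end Groth.Agent.TopTensor9
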